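import Groth.Prelude.Def_PicRel2
import Groth.Agent.AmpleDevLib.Pull
import Mathlib

/-! Base change of a representing scheme of the relative Picard functor. -/

set_option autoImplicit false

universe u

open CategoryTheory CategoryTheory.Limits AlgebraicGeometry

noncomputable section

namespace PicRelBCLib

theorem pullCl_pullCl {X Y Z : Scheme.{u}} (h : Z ⟶ Y) (g : Y ⟶ X) (c : PicF.Cl X) :
    PicF.pullCl h (PicF.pullCl g c) = PicF.pullCl (h ≫ g) c := by
  induction c using Quot.ind with
  | _ L => exact Quot.sound ⟨(Scheme.Modules.pullbackComp h g).app L⟩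

theorem pullCl_id {X : Scheme.{u}} (c : PicF.Cl X) : PicF.pullCl (𝟙 X) c = c := by
  induction c using Quot.ind with
  | _ L => exact Quot.sound ⟨(Scheme.Modules.pullbackId X).app L⟩

theorem isInvertibleCl_pullCl {A B : Scheme.{u}} (g : A ⟶ B) {c : PicF.Cl B} (h : PicF.IsInvertibleCl c) :
    PicF.IsInvertibleCl (PicF.pullCl g c) := by
  obtain ⟨L, rfl, hL⟩ := h
  exact ⟨_, rfl, AmpleDevLib.isInvertible_pb g hL⟩

variable {X S S' : Scheme.{u}} (f : X ⟶ S) (g : S' ⟶ S)

/-- over the old base -/
abbrev dn (T : Over S') : Over S := Over.mk (T.hom ≫ g)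

/-- over the old base -/
abbrev dnMap {U V : Over S'} (h : U ⟶ V) : dn g U ⟶ dn g V :=
  Over.homMk h.left (by simp [reassoc_of% (Over.w h)])

/-- the canonical identification -/
abbrev ci (T : Over S') : PicF.XT (pullback.snd f g) T ≅ PicF.XT f (dn g T) :=
  pullbackLeftPullbackSndIso f g T.hom

@[reassoc]
theorem XTmap_fst {A B : Scheme.{u}} (a : A ⟶ B) {T T' : Over B} (h : T' ⟶ T) :
    PicF.XTmap a h ≫ pullback.fst a T.hom = pullback.fst a T'.hom :=
  (pullback.lift_fst _ _ _).trans (Category.comp_id _)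

@[reassoc]
theorem XTmap_snd {A B : Scheme.{u}} (a : A ⟶ B) {T T' : Over B} (h : T' ⟶ T) :
    PicF.XTmap a h ≫ pullback.snd a T.hom = pullback.snd a T'.hom ≫ h.left :=
  pullback.lift_snd _ _ _

@[reassoc]
theorem ci_fst (T : Over S') : (ci f g T).hom ≫ pullback.fst f (dn g T).hom =
    pullback.fst (pullback.snd f g) T.hom ≫ pullback.fst f g :=
  pullbackLeftPullbackSndIso_hom_fst _ _ _

@[reassoc]
theorem ci_snd (T : Over S') : (ci f g T).hom ≫ pullback.snd f (dn g T).hom =
    pullback.snd (pullback.snd f g) T.hom :=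
  pullbackLeftPullbackSndIso_hom_snd _ _ _

theorem inv_natural {U V : Over S'} (h : U ⟶ V) :
    (ci f g U).inv ≫ PicF.XTmap (pullback.snd f g) h = PicF.XTmap f (dnMap g h) ≫ (ci f g V).inv := by
  rw [Iso.eq_comp_inv, Category.assoc, Iso.inv_comp_eq]
  apply pullback.hom_ext
  · rw [Category.assoc, Category.assoc, ci_fst, XTmap_fst, XTmap_fst_assoc, ci_fst]
  · rw [Category.assoc, Category.assoc, ci_snd, XTmap_snd, XTmap_snd, ci_snd_assoc]
    rfl

variable {P : Over S} {φ : ∀ T : Over S, PicF.Cl (PicF.XT f T) → (T ⟶ P)}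

theorem isRelPic_bc (hP : PicRel.IsRelPic f P φ) :
    PicRel.IsRelPic (pullback.snd f g) (Over.mk (pullback.snd P.hom g))
      (fun T c => Over.homMk
        (pullback.lift (φ (Over.mk (T.hom ≫ g)) (PicF.pullCl (pullbackLeftPullbackSndIso f g T.hom).inv c)).left T.hom
          (Over.w (φ (Over.mk (T.hom ≫ g)) (PicF.pullCl (pullbackLeftPullbackSndIso f g T.hom).inv c))))
        (pullback.lift_snd _ _ _)) where
  natural T T' h c hc := by
    refine Over.OverMorphism.ext (pullback.hom_ext ?_ ?_)
    · simp only [Over.homMk_left, Over.comp_left, Category.assoc, pullback.lift_fst]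
      rw [pullCl_pullCl]
      have := congrArg (fun x => x.left) (hP.natural _ _ (dnMap g h) _ (isInvertibleCl_pullCl (ci f g T).inv hc))
      rw [pullCl_pullCl, ← inv_natural] at this
      exact this
    · simp only [Over.homMk_left, Over.comp_left, Category.assoc, pullback.lift_snd]
      exact (Over.w h).symm
  locallySurjective T x := by
    obtain ⟨ι, U, hU, h⟩ := hP.locallySurjective (dn g T)
      (Over.homMk (x.left ≫ pullback.fst P.hom g) (by
        rw [Category.assoc, pullback.condition]
        exact (Category.assoc _ _ _).symm.trans (congrArg (fun y => y ≫ g) (Over.w x))))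
    refine ⟨ι, U, hU, fun i => ?_⟩
    obtain ⟨c, hc, e⟩ := h i
    let j : dn g (PicRel.ovr T (U i)) ⟶ PicRel.ovr (dn g T) (U i) :=
      Over.homMk (𝟙 (U i).left) ((Category.id_comp _).trans (Category.assoc _ _ _).symm)
    refine ⟨PicF.pullCl (ci f g _).hom (PicF.pullCl (PicF.XTmap f j) c),
      isInvertibleCl_pullCl _ (isInvertibleCl_pullCl _ hc), ?_⟩
    refine Over.OverMorphism.ext (pullback.hom_ext ?_ ?_)
    · simp only [Over.homMk_left, Over.comp_left, Category.assoc, pullback.lift_fst]
      rw [pullCl_pullCl, Iso.inv_hom_id, pullCl_id, hP.natural _ _ j c hc, e]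
      exact Category.id_comp _
    · simp only [Over.homMk_left, Over.comp_left, Category.assoc, pullback.lift_snd]
      rw [show x.left ≫ pullback.snd P.hom g = T.hom from Over.w x]
      rfl
  locallyInjective T c c' hc hc' e := by
    have e' := congrArg (fun y => y.left ≫ pullback.fst P.hom g) e
    simp only [Over.homMk_left, pullback.lift_fst] at e'
    obtain ⟨ι, U, hU, h⟩ := hP.locallyInjective (dn g T) _ _ (isInvertibleCl_pullCl (ci f g T).inv hc)
      (isInvertibleCl_pullCl (ci f g T).inv hc') (Over.OverMorphism.ext e')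
    refine ⟨ι, U, hU, fun i => ?_⟩
    let j : dn g (PicRel.ovr T (U i)) ⟶ PicRel.ovr (dn g T) (U i) :=
      Over.homMk (𝟙 (U i).left) ((Category.id_comp _).trans (Category.assoc _ _ _).symm)
    have key : PicF.XTmap (pullback.snd f g) (PicRel.ovrHom T (U i)) =
        ((ci f g _).hom ≫ PicF.XTmap f j) ≫ PicF.XTmap f (PicRel.ovrHom (dn g T) (U i)) ≫ (ci f g T).inv := by
      have hj : PicF.XTmap f j ≫ PicF.XTmap f (PicRel.ovrHom (dn g T) (U i)) =
          PicF.XTmap f (dnMap g (PicRel.ovrHom T (U i))) := by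
        apply pullback.hom_ext
        · rw [Category.assoc, XTmap_fst, XTmap_fst, XTmap_fst]
        · rw [Category.assoc, XTmap_snd, ← Category.assoc, XTmap_snd, XTmap_snd, Category.assoc]
          simp [j]
      rw [Category.assoc, reassoc_of% hj, ← inv_natural, Iso.hom_inv_id_assoc]
    rw [key]
    simp only [← pullCl_pullCl]
    rw [h i]

end PicRelBCLib
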